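import Groth.Agent.Lib.GalCd.FacCoh
import Groth.Agent.S5706
import Mathlib.AlgebraicGeometry.Properties

/-!
# The divisor sequence on an integral scheme with factorial strict local rings
-/

set_option autoImplicit false
set_option backward.isDefEq.respectTransparency false
set_option backward.isDefEq.respectTransparency.types false
set_option linter.style.haveILetI false

universe u

open CategoryTheory CategoryTheory.Limits AlgebraicGeometry Opposite Order
open GrothLib.EtSite GrothLib.EtColim GrothLib.GalCd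

noncomputable section

namespace GrothLib.DivSeq18

/-- `GmPush` of an isomorphism is an isomorphism. -/
theorem isIso_GmPush {X Y : Scheme.{u}} (u : X ⟶ Y) [IsIso u] : IsIso (EtLim.GmPush u) := by
  haveI : ∀ V, IsIso ((EtLim.bcProj u).app V) := fun V =>
    inferInstanceAs (IsIso (pullback.fst V.hom u))
  haveI : IsIso (EtLim.bcProj u) := NatIso.isIso_of_isIso_app _
  haveI : IsIso ((sheafToPresheaf _ _).map (EtLim.GmPush u)) :=
    inferInstanceAs (IsIso (Functor.whiskerRight (NatTrans.op (EtLim.bcProj u)) EtCoh.ΓUnits))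
  exact isIso_of_reflects_iso _ (sheafToPresheaf _ _)

variable {X : Scheme.{u}}

theorem eq_genericPoint_of_maximal [IsIntegral X] (x : MaxPts X) : x.1 = genericPoint X :=
  (x.2 _ (genericPoint_specializes x.1)).symm

theorem finite_maxPts [IsIntegral X] : Finite (MaxPts X) := by
  haveI : Subsingleton (MaxPts X) := ⟨fun a b => Subtype.ext
    ((eq_genericPoint_of_maximal a).trans (eq_genericPoint_of_maximal b).symm)⟩
  infer_instance

/-- Points of codimension one are the mid points. -/
theorem coheight_one_iff (x : X) :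
    coheight x = 1 ↔ (¬ ∀ y, y ⤳ x → y = x) ∧ ∀ y, y ⤳ x → y ≠ x → ∀ z, z ⤳ y → z = y := by
  have hmax : ∀ z : X, IsMax z ↔ ∀ y, y ⤳ z → y = z := fun z => by
    constructor
    · exact fun h y hy => (Specializes.antisymm hy (h hy)).eq
    · exact fun h y hy => (h y hy).symm ▸ le_rfl
  have hlt : ∀ y z : X, z < y ↔ y ⤳ z ∧ y ≠ z := fun y z => by
    rw [lt_iff_le_not_ge]
    refine ⟨fun h => ⟨h.1, fun e => h.2 (e ▸ le_rfl)⟩, fun h => ⟨h.1, fun h' => h.2 ?_⟩⟩
    exact (Specializes.antisymm h.1 h').eq
  constructor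
  · intro h
    refine ⟨fun hm => ?_, fun y hy hne => ?_⟩
    · rw [coheight_eq_zero.2 ((hmax x).2 hm)] at h
      exact zero_ne_one h
    · have h1 := (coheight_le_coe_iff (n := 1)).1 h.le y ((hlt y x).2 ⟨hy, hne⟩)
      exact (hmax y).1 (coheight_eq_zero.1 (ENat.lt_one_iff_eq_zero.1 h1))
  · rintro ⟨h1, h2⟩
    refine le_antisymm ((coheight_le_coe_iff (n := 1)).2 fun y hy => ?_) (Order.one_le_iff_ne_zero.2 fun h0 => h1 ?_)
    · obtain ⟨hyx, hne⟩ := (hlt y x).1 hy
      rw [coheight_eq_zero.2 ((hmax y).2 (h2 y hyx hne))]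
      exact zero_lt_one
    · exact (hmax x).1 (coheight_eq_zero.1 h0)

theorem dim_one_iff (x : X) :
    ringKrullDim (X.presheaf.stalk x) = 1 ↔ (¬ ∀ y, y ⤳ x → y = x) ∧ ∀ y, y ⤳ x → y ≠ x → ∀ z, z ⤳ y → z = y := by
  rw [ringKrullDim_stalk_eq_coheight, ← coheight_one_iff]
  exact_mod_cast Iff.rfl

section

variable [IsLocallyNoetherian X] [Finite (MaxPts X)] [IsReduced X] (hf : EtFactorial X)

/-- The value at a mid point is killed on the part supported over another one. -/
theorem kernel_ι_unit_eq_zero {F : Finset (MidPts X)} {y : MidPts X} (hy : y ∉ F) :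
    kernel.ι (EtDual.unitApp (midCompl F).ι (DivSheaf X)) ≫
      (EtCoh.pullPushAdj (X.fromSpecResidueField y.1)).unit.app (DivSheaf X) = 0 := by
  let i := X.fromSpecResidueField y.1
  let k := (midCompl F).ι
  let φ := kernel.ι (EtDual.unitApp k (DivSheaf X))
  have hk : (EtCoh.pull k).map φ = 0 := (GrothLib.EtSupp19.pull_map_eq_zero_iff k _).2 (kernel.condition _)
  have hi : (EtCoh.pull i).map φ = 0 := by
    refine GrothLib.ExtZero.zero_of_stalks _ fun Ω _ _ u => ?_
    obtain ⟨v, hv⟩ := GrothLib.ExtZero.exists_lift_of_mem k (u ≫ i) (by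
      rw [Scheme.Opens.range_ι, Scheme.Hom.comp_apply]
      change i.base (u.base default) ∈ midCompl F
      rw [Scheme.fromSpecResidueField_apply]
      exact mem_midCompl.2 fun c hc hcy => hy (midPts_eq_of_specializes hcy ▸ hc))
    have h1 : (EtCoh.stalk (v ≫ k)).map φ = 0 := by
      rw [← cancel_epi ((pullStalkIso v k).hom.app _), comp_zero]
      refine ((pullStalkIso v k).hom.naturality φ).symm.trans ?_
      rw [Functor.comp_map, hk, Functor.map_zero, zero_comp]
    rw [hv] at h1
    rw [← cancel_mono ((pullStalkIso u i).hom.app _), zero_comp]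
    exact ((pullStalkIso u i).hom.naturality φ).trans ((congrArg (_ ≫ ·) h1).trans comp_zero)
  apply ((EtCoh.pullPushAdj i).homEquiv _ _).symm.injective
  rw [Adjunction.homEquiv_counit, Adjunction.homEquiv_counit, Functor.map_comp, Category.assoc,
    Functor.map_zero, zero_comp]
  change (EtCoh.pull i).map φ ≫ _ = 0
  rw [hi, zero_comp]

include hf in
/-- The target of a single mid point, as a part of the divisors. -/
theorem exists_comp (y : MidPts X) :
    ∃ b : (EtCoh.push (X.fromSpecResidueField y.1)).obj ((EtCoh.pull (X.fromSpecResidueField y.1)).obj (DivSheaf X)) ⟶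
        DivSheaf X,
      ∀ (F : Finset (MidPts X)) (hy : y ∈ F), haveI := isIso_midPsi hf F
        biproduct.ι (midTarget X F) ⟨y, hy⟩ ≫ inv (midPsi X F) ≫
          kernel.ι (EtDual.unitApp (midCompl F).ι (DivSheaf X)) = b := by
  classical
  haveI := isIso_midPsi hf ({y} : Finset (MidPts X))
  refine ⟨biproduct.ι (midTarget X {y}) ⟨y, Finset.mem_singleton_self y⟩ ≫ inv (midPsi X {y}) ≫
    kernel.ι (EtDual.unitApp (midCompl {y}).ι (DivSheaf X)), fun F hy => ?_⟩
  haveI := isIso_midPsi hf F
  have hsub : ({y} : Finset (MidPts X)) ⊆ F := Finset.singleton_subset_iff.2 hy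
  let r : midPart X {y} ⟶ midPart X F := kernel.lift _ (kernel.ι _) (midPart_comp hsub)
  have key : midPsi X {y} ≫ biproduct.π (midTarget X {y}) ⟨y, Finset.mem_singleton_self y⟩ ≫
      biproduct.ι (midTarget X F) ⟨y, hy⟩ = r ≫ midPsi X F := by
    apply biproduct.hom_ext
    intro c
    simp only [Category.assoc, midPsi, biproduct.lift_π, biproduct.lift_π_assoc]
    rw [kernel.lift_ι_assoc]
    by_cases hc : c = ⟨y, hy⟩
    · subst hc
      rw [biproduct.ι_π_self, Category.comp_id]
    · rw [biproduct.ι_π_ne _ (Ne.symm hc), comp_zero, comp_zero]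
      refine (kernel_ι_unit_eq_zero ?_).symm
      rw [Finset.mem_singleton]
      exact fun e => hc (Subtype.ext e)
  have e1 : biproduct.ι (midTarget X F) ⟨y, hy⟩ ≫ inv (midPsi X F) =
      biproduct.ι (midTarget X {y}) ⟨y, Finset.mem_singleton_self y⟩ ≫ inv (midPsi X {y}) ≫ r := by
    rw [← cancel_mono (midPsi X F), Category.assoc, IsIso.inv_hom_id, Category.comp_id]
    simp only [Category.assoc]
    rw [← key, IsIso.inv_hom_id_assoc, biproduct.ι_π_self_assoc]
  rw [← Category.assoc, e1]
  simp only [Category.assoc]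
  rw [kernel.lift_ι]

include hf in
/-- The sheaf of divisors is the coproduct of its values at the mid points. -/
theorem nonempty_iso_cofan {J : Type u} (e : J ≃ MidPts X) (A : J → EtCoh.Ab X)
    (θ : ∀ j, A j ≅ (EtCoh.push (X.fromSpecResidueField (e j).1)).obj
      ((EtCoh.pull (X.fromSpecResidueField (e j).1)).obj (DivSheaf X)))
    (c : Cofan A) (hc : IsColimit c) : Nonempty (DivSheaf X ≅ c.pt) := by
  classical
  choose b hb using exists_comp hf
  let α : c.pt ⟶ DivSheaf X := Cofan.IsColimit.desc hc fun j => (θ j).hom ≫ b (e j)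
  have hα : ∀ j, c.inj j ≫ α = (θ j).hom ≫ b (e j) := fun j => Cofan.IsColimit.fac hc _ j
  let ins : ∀ y : MidPts X, (EtCoh.push (X.fromSpecResidueField y.1)).obj
      ((EtCoh.pull (X.fromSpecResidueField y.1)).obj (DivSheaf X)) ⟶ c.pt := fun y =>
    eqToHom (by rw [e.apply_symm_apply]) ≫ (θ (e.symm y)).inv ≫ c.inj (e.symm y)
  have hins : ∀ j, (θ j).hom ≫ ins (e j) = c.inj j := fun j => by
    dsimp only [ins]
    have : ∀ j' (h : j' = j), (θ j).hom ≫ eqToHom (by rw [h]) ≫ (θ j').inv ≫ c.inj j' = c.inj j := by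
      rintro j' rfl
      simp
    exact this _ (e.symm_apply_apply j)
  have hins' : ∀ y, ins y ≫ α = b y := fun y => by
    obtain ⟨j, rfl⟩ := e.surjective y
    rw [← cancel_epi (θ j).hom, ← Category.assoc, hins]
    exact hα j
  let h : ∀ F, midPart X F ⟶ c.pt := fun F => midPsi X F ≫ biproduct.desc fun y : F => ins y.1
  have hh : ∀ F, h F ≫ α = kernel.ι (EtDual.unitApp (midCompl F).ι (DivSheaf X)) := fun F => by
    haveI := isIso_midPsi hf F
    rw [← cancel_epi (inv (midPsi X F)), Category.assoc, IsIso.inv_hom_id_assoc]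
    refine biproduct.hom_ext' _ _ fun y => ?_
    rw [biproduct.ι_desc_assoc, hins', ← hb y.1 F y.2]
  have hmap : ∀ (F F' : Finset (MidPts X)) (hsub : F ⊆ F'),
      kernel.lift (EtDual.unitApp (midCompl F').ι (DivSheaf X)) (kernel.ι _) (midPart_comp hsub) ≫ h F' = h F := by
    intro F F' hsub
    haveI := isIso_midPsi hf F
    haveI := isIso_midPsi hf F'
    rw [← cancel_epi (inv (midPsi X F))]
    refine biproduct.hom_ext' _ _ fun y => ?_
    have e1 : biproduct.ι (midTarget X F) y ≫ inv (midPsi X F) ≫ kernel.lift (EtDual.unitApp (midCompl F').ι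
        (DivSheaf X)) (kernel.ι _) (midPart_comp hsub) =
        biproduct.ι (midTarget X F') ⟨y.1, hsub y.2⟩ ≫ inv (midPsi X F') := by
      haveI : Mono (kernel.ι (EtDual.unitApp (midCompl F').ι (DivSheaf X))) := inferInstance
      rw [← cancel_mono (kernel.ι (EtDual.unitApp (midCompl F').ι (DivSheaf X)))]
      simp only [Category.assoc, kernel.lift_ι]
      rw [hb y.1 F y.2, hb y.1 F' (hsub y.2)]
    rw [← Category.assoc (inv (midPsi X F)), ← Category.assoc, e1]
    simp [h]
  let co : Cocone (midDiag X) :=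
    { pt := c.pt
      ι :=
        { app := fun F => h F.down
          naturality := fun F F' g => (hmap _ _ (ULift.down_le.mpr (leOfHom g))).trans (Category.comp_id _).symm } }
  haveI := isIso_midDesc hf
  let d := colimit.desc (midDiag X) (midCocone X)
  let β := colimit.desc (midDiag X) co
  have hd : β ≫ α = d := colimit.hom_ext fun F => by
    simp only [β, d, colimit.ι_desc_assoc, colimit.ι_desc]
    exact hh F.down
  have hbr : ∀ y, b y ≫ inv d ≫ β = ins y := fun y => by
    let F : Finset (MidPts X) := {y}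
    haveI := isIso_midPsi hf F
    rw [← hb y F (Finset.mem_singleton_self y)]
    have e1 : kernel.ι (EtDual.unitApp (midCompl F).ι (DivSheaf X)) ≫ inv d = colimit.ι (midDiag X) ⟨F⟩ := by
      rw [IsIso.comp_inv_eq]
      exact (colimit.ι_desc (midCocone X) _).symm
    simp only [Category.assoc]
    rw [reassoc_of% e1, colimit.ι_desc]
    change biproduct.ι (midTarget X F) ⟨y, _⟩ ≫ inv (midPsi X F) ≫ midPsi X F ≫ _ = _
    rw [IsIso.inv_hom_id_assoc, biproduct.ι_desc]
  refine ⟨⟨inv d ≫ β, α, by rw [Category.assoc, hd, IsIso.inv_hom_id], Cofan.IsColimit.hom_ext hc _ _ fun j => ?_⟩⟩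
  rw [← Category.assoc, hα, Category.assoc, hbr, Category.comp_id]
  exact hins j

end

variable [IsIntegral X] [IsLocallyNoetherian X]

/-- The divisor sequence. -/
theorem main (hf : EtFactorial X) (c : Cofan fun x : {x : X // ringKrullDim (X.presheaf.stalk x) = 1} =>
      (EtCoh.push (X.fromSpecResidueField x.1)).obj (EtCoh.const (Spec (X.residueField x.1)) ℤ))
    (hc : IsColimit c) :
    Mono (EtLim.GmPush (X.fromSpecStalk (genericPoint X))) ∧
      Nonempty (cokernel (EtLim.GmPush (X.fromSpecStalk (genericPoint X))) ≅ c.pt) := by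
  classical
  haveI := finite_maxPts (X := X)
  let η : MaxPts X := ⟨genericPoint X, fun y hy => (Specializes.antisymm hy (genericPoint_specializes y)).eq⟩
  haveI : Subsingleton (MaxPts X) := ⟨fun a b => Subtype.ext
    ((eq_genericPoint_of_maximal a).trans (eq_genericPoint_of_maximal b).symm)⟩
  letI : Unique (MaxPts X) := uniqueOfSubsingleton η
  let g := EtLim.GmPush (X.fromSpecStalk (genericPoint X))
  haveI : IsIso (X.residue (genericPoint X)) := (ConcreteCategory.isIso_iff_bijective _).2
    ⟨by
      rw [injective_iff_map_eq_zero]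
      intro a ha
      have : a ∈ IsLocalRing.maximalIdeal X.functionField := Ideal.Quotient.eq_zero_iff_mem.1 ha
      rwa [IsLocalRing.maximalIdeal_eq_bot] at this, X.residue_surjective _⟩
  haveI := isIso_GmPush (Spec.map (X.residue (genericPoint X)))
  let rest := (EtCoh.push (X.fromSpecStalk (genericPoint X))).map (EtLim.GmPush (Spec.map (X.residue (genericPoint X)))) ≫
      (EtCoh.pushComp (X.fromSpecStalk (genericPoint X)) (Spec.map (X.residue (genericPoint X)))).hom.app _
  have hg : g ≫ rest = EtLim.GmPush (X.fromSpecResidueField (genericPoint X)) :=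
    Groth.Agent.S5706.GmPush_comp _ _
  haveI : IsIso (Pmax.π X η) := by
    refine ⟨biproduct.ι (fun x : MaxPts X => GPush x.1) η, ?_, biproduct.ι_π_self _ _⟩
    refine biproduct.hom_ext _ _ fun j => ?_
    obtain rfl : j = η := Subsingleton.elim _ _
    simp [Pmax.π]
  haveI : IsIso rest := inferInstance
  have h2 : toMax X ≫ Pmax.π X η = g ≫ rest := (toMax_π X η).trans hg.symm
  have hg' : g = toMax X ≫ (Pmax.π X η ≫ inv rest) := by
    rw [reassoc_of% h2, IsIso.hom_inv_id, Category.comp_id]
  haveI := mono_toMax (X := X)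
  refine ⟨by change Mono g; rw [hg']; infer_instance, ?_⟩
  let i1 : cokernel g ≅ DivSheaf X := cokernel.mapIso g (toMax X) (Iso.refl _)
    (asIso (Pmax.π X η ≫ inv rest)).symm (by
      simp only [Iso.refl_hom, Category.id_comp, Iso.symm_hom, asIso_inv]
      rw [IsIso.comp_inv_eq, hg'])
  let e : {x : X // ringKrullDim (X.presheaf.stalk x) = 1} ≃ MidPts X :=
    Equiv.subtypeEquivRight dim_one_iff
  let iso := fun j => exists_pull_div_iso hf (e j)
  obtain ⟨i2⟩ := nonempty_iso_cofan hf e _ (fun j => (EtCoh.push (X.fromSpecResidueField (e j).1)).mapIso (iso j).some) c hc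
  exact ⟨i1 ≪≫ i2⟩

end GrothLib.DivSeq18
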